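import Cfsg.Agent.M12R.Cw
import Cfsg.Agent.Golay.Words
import Cfsg.Agent.Golay.Cls
import Cfsg.Prelude.Def_SporadicB

/-!
# M12R/Main: recognition of `M₁₂` by the centraliser of a 2-central involution
-/

set_option autoImplicit false
set_option maxRecDepth 100000

namespace Cfsg.Agent.M12R

open Cfsg.Agent.Comp Cfsg.Agent.Core Subgroup

variable {G : Type*} [Group G] {φ : El DL →* G} {f d : G}

/-- the letters -/
noncomputable def xs (φ : El DL →* G) (f d : G) (n : ℕ) : G :=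
  [𝐚, 𝐚⁻¹, 𝐛, 𝐛⁻¹, 𝐰, 𝐮, 𝐱, 𝐱⁻¹, f, f⁻¹, d].getD n 1

theorem xs_l (φ : El DL →* G) (f d : G) {i : ℕ} (hi : i < 8) : xs φ f d i = φ (El.l DL i) := by
  obtain ⟨l0, l1, l2, l3, l4, l5, l6, l7⟩ := l_eq
  interval_cases i <;> simp only [l0, l1, l2, l3, l4, l5, l6, l7, map_inv] <;> rfl

theorem MD.sat (h : MD φ f d) : Sat (xs φ f d) (RDL ++ RM) := by
  refine ((El.sat_l.map φ).congr fun w hw i hi =>
    (xs_l φ f d ((by decide +kernel : ∀ w ∈ RDL, ∀ i ∈ w, i < 8) w hw i hi)).symm).append fun w hw => ?_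
  have dz := h.dz
  rw [z_eq.1, map_mul] at dz
  simp only [RM, List.mem_cons, List.not_mem_nil, or_false] at hw
  rcases hw with rfl | rfl | rfl | rfl | rfl | rfl | rfl | rfl | rfl | rfl | rfl <;>
    simp only [ev_cons, ev_nil, xs, List.getD_cons_succ, List.getD_cons_zero, mul_one]
  · group
  · group
  · rw [← h.f3]; group
  · rw [← mul_assoc, ← mul_assoc, h.uf]; group
  · rw [← h.fa]; group
  · rw [← mul_assoc, ← mul_assoc, h.fb]; group
  · rw [← mul_assoc, ← mul_assoc, h.fw]; exact mdl h.inj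
  · exact h.dd
  · rw [← mul_assoc 𝐱, h.dx, h.dd]
  · rw [← dz]; simp only [mul_assoc]
  · rw [← h.df]; simp only [mul_assoc]

theorem range_le (φ : El DL →* G) (f d : G) : φ.range ≤ gen (xs φ f d) 11 := by
  rw [MonoidHom.range_eq_map, ← El.gen_l, map_genW, gen_le]
  exact fun i hi => xs_l φ f d hi ▸ letter_mem_gen (lt_trans hi (by decide))

theorem MD.top [Finite G] (h : MD φ f d) : gen (xs φ f d) 11 = ⊤ := by
  have hL := range_le φ f d
  have hf : f ∈ gen (xs φ f d) 11 := letter_mem_gen (x := 8) (by decide)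
  have hC := h.hgen _ hL hf (letter_mem_gen (x := 10) (by decide))
  generalize gen (xs φ f d) 11 = H at hL hf hC
  have m : ∀ y, φ y ∈ H := fun y => hL ⟨y, rfl⟩
  have hv : ∀ t, ∃ k ∈ H, k * 𝐳 * k⁻¹ = φ (t * mv * t⁻¹) := fun t =>
    ⟨φ t * f, mul_mem (m t) hf, by rw [map_mul, map_mul, map_inv, ← h.fz]; group⟩
  have A : ∀ e, IsConj 𝐳 e → e * 𝐳 = 𝐳 * e → ∃ k ∈ H, k * 𝐳 * k⁻¹ = e := fun e he hc => by
    obtain ⟨y, rfl⟩ := (h.cent e).1 hc
    rcases cls h.toCM he with rfl | ⟨t, rfl⟩ | ⟨t, rfl⟩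
    · exact ⟨1, one_mem _, by group⟩
    · exact hv t
    · obtain ⟨t', e'⟩ := f_Ft
      obtain ⟨k, hk, e''⟩ := hv t'
      refine ⟨φ t * f * k, mul_mem (mul_mem (m t) hf) hk, ?_⟩
      rw [map_mul, map_mul, map_inv, ← h.ft, ← e', ← e'']; group
  have B : ∀ e, IsConj 𝐳 e → e * 𝐰 = 𝐰 * e → ∃ k ∈ H, k * 𝐳 * k⁻¹ = e := fun e he hc => by
    obtain ⟨c, rfl⟩ := dC h.toCM h.zv h.zt he hc
    exact ⟨c, hC c.2, rfl⟩
  have C : ∀ e k, k ∈ H → (∃ k' ∈ H, k' * 𝐳 * k'⁻¹ = k * e * k⁻¹) → ∃ k ∈ H, k * 𝐳 * k⁻¹ = e :=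
    fun e k hk ⟨k', hk', e'⟩ => ⟨k⁻¹ * k', mul_mem (inv_mem hk) hk', by
      calc _ = k⁻¹ * (k' * 𝐳 * k'⁻¹) * k := by group
        _ = _ := by rw [e']; group⟩
  rw [eq_top_iff]
  intro g _
  have hd : IsConj 𝐳 (g * 𝐳 * g⁻¹) := cj_of g rfl
  obtain ⟨k, hk, e⟩ : ∃ k ∈ H, k * 𝐳 * k⁻¹ = g * 𝐳 * g⁻¹ := by
    have dd : g * 𝐳 * g⁻¹ * (g * 𝐳 * g⁻¹) = 1 := by
      calc _ = g * (𝐳 * 𝐳) * g⁻¹ := by group
        _ = 1 := by rw [show 𝐳 * 𝐳 = 1 from mdl h.inj]; group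
    generalize g * 𝐳 * g⁻¹ = e at hd dd
    rcases Inv.isConj_or_exists_central dd (show 𝐰 * 𝐰 = 1 from mdl h.inj) with ⟨a, -, ha⟩ | ⟨c, -, c2, c3, c4⟩
    · exact absurd (hd.trans (cj_of a ha)) (not_zw h.toCM)
    obtain ⟨k, y, hk, hy, e'⟩ := h.inv c c4.eq (Inv.mul_self_of_two c2)
    have hk := hC (mem_cent.2 hk)
    have c5 := cj_comm c3.eq.symm k
    rw [e'] at c5
    refine C e k hk ?_
    have hd' := hd.trans (cj_of k rfl)
    generalize k * e * k⁻¹ = e at c5 hd'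
    rcases (by
      have := f_wcl
      simp only [List.mem_cons, List.not_mem_nil, or_false, forall_eq_or_imp, forall_eq] at this hy
      rcases hy with rfl | rfl | rfl | rfl | rfl | rfl
      exacts [Or.inl rfl, Or.inr (Or.inr ⟨1, by group⟩), Or.inr (Or.inl rfl), Or.inr (Or.inr this.1),
        Or.inr (Or.inr this.2.1), Or.inr (Or.inr this.2.2.1)] :
      y = 1 ∨ y = mz ∨ ∃ t, t * mw * t⁻¹ = y) with rfl | rfl | ⟨t, rfl⟩
    · rw [map_one, conj_eq_one_iff] at e'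
      exact absurd e' (Inv.ne_one_of_two c2)
    · exact A e hd' c5
    · refine C e (φ t)⁻¹ (inv_mem (m t)) (B _ (hd'.trans (cj_of _ rfl)) ?_)
      have := cj_comm c5 (φ t)⁻¹
      rwa [show (φ t)⁻¹ * φ (t * mw * t⁻¹) * (φ t)⁻¹⁻¹ = 𝐰 by simp only [map_mul, map_inv]; group] at this
  obtain ⟨l, hl⟩ := (h.cent (k⁻¹ * g)).1 (comm_of_cj (by
    calc _ = k⁻¹ * (g * 𝐳 * g⁻¹) * k := by group
      _ = _ := by rw [← e]; group))
  rw [show g = k * φ l by rw [hl]; group]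
  exact mul_mem hk (m l)

open Golay in
theorem gen12 : Gen pc Spor.M12 cs12 := by
  have hin : In pc Spor.M12 cs12 := test_M12 (by decide +kernel)
  refine ⟨hin, gen_M12.2.trans ((closure_le _).2 ?_)⟩
  rintro g ⟨-, hg⟩
  have h2 : In pc (closure {g | g ∈ Spor.M12 ∧ pc g ∈ cs12}) cs12 := fun c hc =>
    let ⟨g, h1, h2⟩ := hin c hc
    ⟨g, subset_closure ⟨h1, h2 ▸ hc⟩, h2⟩
  obtain ⟨w, e⟩ : ∃ w, pc g = evalW 24 5 cs12 w := by
    simp only [gensM12, List.mem_cons, List.not_mem_nil, or_false] at hg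
    rcases hg with e | e
    · exact ⟨[3, 10, 1, 8, 0, 6], e.trans (by decide +kernel)⟩
    · exact ⟨[7, 9, 1, 10, 7, 1, 8, 0], e.trans (by decide +kernel)⟩
  obtain ⟨g', h3, h4⟩ := gE.in_evalW (by norm_num) h2 w
  exact pc_injective (h4.trans e.symm) ▸ h3

theorem cardLe_L {c : ℕ → G} (h : Sat c RDL) : CardLe (gen c 8) 192 :=
  CardLe.step (cardLe_nil c) (TCDL.index _ c h)

theorem MD.iso [Finite G] (h : MD φ f d) : Nonempty (G ≃* Spor.M12) := by
  obtain ⟨σ, h1, h2⟩ := gen12.exists_letters (R := RDL ++ RM) (by decide +kernel)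
  haveI := Golay.simple_M12
  obtain ⟨e⟩ := Golay.equiv_gen_of_cardLe (L := 11) (R := RDL ++ RM) (by decide +kernel)
    ((cardLe_L ((presS_sat 11 _).mono fun w hw => List.mem_append_left _ hw)).step
      (TCM.index _ _ (presS_sat 11 _))) Golay.card_M12 h1 h2 h.sat (x := 4) (by decide) (show 𝐰 ≠ 1 from mdl h.inj)
  exact ⟨(topEquiv.symm.trans (MulEquiv.subgroupCongr h.top.symm)).trans e⟩

theorem main [Finite G] (h : CM φ mz) (hc : IsConj 𝐳 𝐯) : WD φ mz mW ∨ Nonempty (G ≃* Spor.M12) := by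
  rcases exists_km h hc with H | ⟨ψ, f, H⟩
  · refine Or.inl ⟨h, by decide +kernel, by decide +kernel, fun y hy => ?_, fun y hy y1 => ?_, f_W3, f_W4, f_axis,
      f_two, mw, by decide +kernel, f_axisw.1⟩
    · rcases cls h hy with rfl | ⟨t, rfl⟩ | ⟨t, rfl⟩
      · decide +kernel
      · exact (f_W t).1
      · exact absurd ((hy.trans (CM.cj t mt).symm).trans H.symm) (not_zw h)
    · rcases f_W2 y hy with rfl | rfl | ⟨t, rfl⟩
      exacts [absurd rfl y1, IsConj.refl _, hc.trans (CM.cj t mv)]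
  · obtain ⟨d, H⟩ := H.exists_md
    exact Or.inr H.iso

theorem main_simple [Finite G] [IsSimpleGroup G] (h : CM φ mz) : Nonempty (G ≃* Spor.M12) := by
  have nz : ¬ ∀ g, g * 𝐳 * g⁻¹ * 𝐳 = 𝐳 * (g * 𝐳 * g⁻¹) := fun H => by
    have n : normalClosure {𝐳} ≤ centralizer {𝐳} := by
      refine (closure_le _).2 fun a ha => ?_
      obtain ⟨b, rfl, hb⟩ := Group.mem_conjugatesOfSet_iff.1 ha
      obtain ⟨g, rfl⟩ := isConj_iff.1 hb
      exact mem_cent.2 (H g)
    rcases (inferInstance : (normalClosure {𝐳}).Normal).eq_bot_or_eq_top with e | e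
    · exact (show 𝐳 ≠ 1 from mdl h.inj) (mem_bot.1 (e ▸ subset_normalClosure rfl))
    · haveI : (zpowers 𝐳).Normal := ⟨fun a ha g => by
        rw [cj_fix (Inv.commute_of_mem_zpowers (show Commute 𝐳 g from (mem_cent.1 (n (e ▸ mem_top g))).symm) ha).symm.eq]
        exact ha⟩
      rcases this.eq_bot_or_eq_top with e' | e'
      · exact (show 𝐳 ≠ 1 from mdl h.inj) (zpowers_eq_bot.mp e')
      · exact (show ¬ 𝐚 * 𝐮 = 𝐮 * 𝐚 from mdl h.inj) (Inv.commute_of_mem_zpowers (show Commute 𝐳 𝐮 from (h.comm _).symm)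
          (e' ▸ mem_top _)).eq
  have hO : oddCore G = ⊥ := (inferInstance : (oddCore G).Normal).eq_bot_or_eq_top.resolve_right fun e =>
    absurd (Inv.odd_orderOf_of_mem Inv.odd_card_oddCore (e ▸ mem_top 𝐳)) (by
      rw [Inv.two_of_mul_self (mdl h.inj) (mdl h.inj)]; decide)
  have hc : IsConj 𝐳 𝐯 := by
    by_contra hn
    refine nz fun g => ?_
    rw [cj_fix (Inv.zstar_commute hO ⟨Inv.two_of_mul_self (mdl h.inj) (mdl h.inj), fun g hg => ?_⟩ g).symm.eq]
    by_contra hne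
    exact hn (zv_of_not_isolated h hg.symm.eq hne)
  refine (main h hc).resolve_left fun H => nz fun g => ?_
  obtain ⟨y, -, e⟩ := H.all (cj_of g rfl)
  rw [← e]; exact h.comm y

open Golay MulAction in
theorem cm12 : ∃ φ : El DL →* Spor.M12, CM φ mz := by
  obtain ⟨σ, h1, h2⟩ := gen12.1.exists_letters
  have hs : Sat σ RDL := fun w hw => Subtype.ext (pc_injective ((h2 w).trans
    (((by decide +kernel : ∀ w ∈ RDL, evalW 24 5 cs12 w = idP 24 5) w hw).trans gE.idP_eq)))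
  obtain ⟨φ, h3, -⟩ := El.exists_hom (D := DL) hs
  have hz : pc (𝐳 : P24) = 970499966350631336865513127433832480 := by
    rw [z_eq.1, map_mul, ← l_eq.1, h3 0 (by decide), show σ 0 * σ 0 = ev σ [0, 0] by simp, h2]
    decide +kernel
  have hi : Function.Injective φ := inj_of_z fun e => by
    rw [e] at hz
    exact absurd (gE.idP_eq.trans hz) (by decide +kernel)
  have hf : Finite Cj := inferInstanceAs (Finite P24)
  have h4 := (isCAct_cj Spor.M12).le_ncard_orbit (x0 := cj (𝐳 : P24)) le_rfl gen_M12.1 trivial hz 500 (N := 495)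
    (by decide +kernel) (Set.toFinite _)
  have h5 : stabilizer Spor.M12 (cj (𝐳 : P24)) = centralizer {𝐳} := by
    ext g
    rw [mem_centralizer_singleton_iff, mem_stabilizer_iff, Subgroup.smul_def, smul_cj_eq, Subtype.ext_iff]
    rfl
  have h6 := (stabilizer Spor.M12 (cj (𝐳 : P24))).card_mul_index
  rw [index_stabilizer, h5, card_M12] at h6
  have h7 : φ.range = centralizer {𝐳} := eq_of_le_of_card_ge (by
    rintro _ ⟨y, rfl⟩
    exact mem_cent.2 (by rw [← map_mul, f_z, map_mul])) (by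
    rw [El.card_range hi]
    show _ ≤ 192
    nlinarith)
  exact ⟨φ, hi, fun g => by rw [← mem_cent, ← h7]; rfl⟩

theorem cent12 {u : Spor.M12} (hu : IsTwoCentralInvolution u) :
    Nonempty (El DL ≃* centralizer ({u} : Set Spor.M12)) := by
  haveI : Fact (Nat.Prime 2) := ⟨Nat.prime_two⟩
  obtain ⟨φ, h⟩ := cm12
  obtain ⟨u2, P, hP, hc⟩ := hu
  obtain ⟨S⟩ : Nonempty (Sylow 2 (El DL)) := inferInstance
  obtain ⟨g, hg⟩ := Inv.exists_conj_le_sylow P (S.2.map φ)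
  have hS : Nat.card S = 64 := by
    rw [S.card_eq_multiplicity, El.card_El, Nat.factorization_def _ (by norm_num)]
    decide +kernel
  obtain ⟨k, hk⟩ := Inv.exists_conj_mem_sylow S (show mz * mz = 1 by decide +kernel)
  rw [cj_fix (f_z k)] at hk
  have c : ∀ s ∈ S, g⁻¹ * u * g * φ s = φ s * (g⁻¹ * u * g) := fun s hs => by
    simpa [mul_assoc] using (cj_comm (hc _ (hg _ (mem_map_of_mem φ hs))) g⁻¹).symm
  obtain ⟨y, hy⟩ := (h.cent _).1 (c mz hk)
  obtain rfl : y = mz := by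
    by_contra hne
    have := (by decide +kernel : ∀ y : El DL, y * y = 1 → y ≠ 1 → y ≠ mz →
      El.cnt (fun d : El DL => d * y = y * d) ≤ 32) y (h.sq hy (Inv.mul_self_of_two u2)) (fun e => by
        rw [e, map_one, eq_comm, mul_assoc, inv_mul_eq_one, eq_comm, mul_eq_right] at hy
        exact Inv.ne_one_of_two u2 hy) hne
    rw [← El.card_eq_cnt, ← Nat.card_congr (Equiv.subtypeEquivRight (p := (· ∈ centralizer {y})) fun _ => mem_cent)] at this
    have h2 : (S : Subgroup (El DL)) ≤ centralizer {y} := fun s hs => mem_cent.2 (h.inj (by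
      rw [map_mul, map_mul, hy, c s hs]))
    have := (card_le_of_le h2).trans this
    omega
  let ψ : El DL →* Spor.M12 := (MulAut.conj g).toMonoidHom.comp φ
  have h3 : ψ.range = centralizer {u} := by
    ext a
    rw [mem_cent, show u = g * 𝐳 * g⁻¹ by rw [hy]; group]
    refine ⟨fun ⟨r, hr⟩ => hr ▸ cj_comm (h.comm r) g, fun H => (h.pull H).imp fun r hr => ?_⟩
    show g * φ r * g⁻¹ = a
    rw [hr]; group
  exact ⟨(MonoidHom.ofInjective ((MulAut.conj g).injective.comp h.inj)).trans (MulEquiv.subgroupCongr h3)⟩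

theorem wong [Finite G] [IsSimpleGroup G] {u : Spor.M12} (hu : IsTwoCentralInvolution u) {t : G} (ht : orderOf t = 2)
    (e : centralizer ({t} : Set G) ≃* centralizer ({u} : Set Spor.M12)) : Nonempty (G ≃* Spor.M12) := by
  obtain ⟨e'⟩ := cent12 hu
  obtain ⟨φ, h, -⟩ := exists_cm (Inv.ne_one_of_two ht) (e'.trans e.symm) fun g hg =>
    f_center g (hg _) (hg _) (hg _) (hg _)
  exact main_simple h

end Cfsg.Agent.M12R
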